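import Groth.Agent.H45.ExtColim.Sections
import Groth.Agent.H43.CechDelta
import Groth.Prelude.Def_CohCx

/-!
# Čech-acyclicity for a finite family passes to filtered colimits

(helper45)
-/

set_option autoImplicit false
universe u
open CategoryTheory CategoryTheory.Limits Opposite

namespace Groth.Agent.H45.ExtColim

open Groth.Agent.H43.CechDelta (π_map_apply pi_ext)

variable {C : Type u} [SmallCategory C] [HasPullbacks C] {J : GrothendieckTopology C}
  {U : C} {ι : Type u} (Y : ι → Over U)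

/-- The Čech complex functor on abelian sheaves. -/
noncomputable def Kf : Sheaf J AddCommGrpCat.{u} ⥤ CochainComplex AddCommGrpCat.{u} ℕ :=
  sheafToPresheaf J AddCommGrpCat.{u} ⋙ (Functor.whiskeringLeft _ _ _).obj (Over.forget U).op ⋙
    cechComplexFunctor Y

lemma Kf_obj (G : Sheaf J AddCommGrpCat.{u}) :
    (Kf Y).obj G = (cechComplexFunctor Y).obj ((Over.forget U).op ⋙ G.obj) := rfl

lemma Kf_map_f {G G' : Sheaf J AddCommGrpCat.{u}} (φ : G ⟶ G') (n : ℕ) :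
    ((Kf Y).map φ).f n =
      Limits.Pi.map (fun x : Fin (n + 1) → ι => φ.hom.app (op (∏ᶜ (Y ∘ x)).left)) := rfl

lemma isZero_cechH_iff (G : Sheaf J AddCommGrpCat.{u}) (p : ℕ) :
    IsZero (CohCx.cechH G.obj Y (p + 1)) ↔
      ∀ x₂ : ((Kf Y).obj G).X (p + 1), (((Kf Y).obj G).d (p + 1) (p + 2)).hom x₂ = 0 →
        ∃ x₁ : ((Kf Y).obj G).X p, (((Kf Y).obj G).d p (p + 1)).hom x₁ = x₂ := by
  change IsZero (((Kf Y).obj G).homology (p + 1)) ↔ _
  rw [← HomologicalComplex.exactAt_iff_isZero_homology,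
    HomologicalComplex.exactAt_iff' _ p (p + 1) (p + 2) (by simp) (by simp),
    ShortComplex.ab_exact_iff]
  rfl

/-- projections from the Čech cochains -/
noncomputable def πK (G : Sheaf J AddCommGrpCat.{u}) (n : ℕ) (a : Fin (n + 1) → ι) :
    ((Kf Y).obj G).X n ⟶ G.obj.obj (op (∏ᶜ (Y ∘ a)).left) :=
  Pi.π (fun a : Fin (n + 1) → ι => G.obj.obj (op (∏ᶜ (Y ∘ a)).left)) a

lemma πK_map {G G' : Sheaf J AddCommGrpCat.{u}} (φ : G ⟶ G') (n : ℕ) (a : Fin (n + 1) → ι) :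
    ((Kf Y).map φ).f n ≫ πK Y G' n a = πK Y G n a ≫ φ.hom.app (op (∏ᶜ (Y ∘ a)).left) :=
  Limits.Pi.map_π (fun x : Fin (n + 1) → ι => φ.hom.app (op (∏ᶜ (Y ∘ x)).left)) a

lemma πK_map_apply {G G' : Sheaf J AddCommGrpCat.{u}} (φ : G ⟶ G') (n : ℕ)
    (a : Fin (n + 1) → ι) (s : ((Kf Y).obj G).X n) :
    (πK Y G' n a).hom ((((Kf Y).map φ).f n).hom s) =
      (φ.hom.app (op (∏ᶜ (Y ∘ a)).left)).hom ((πK Y G n a).hom s) :=
  ConcreteCategory.congr_hom (πK_map Y φ n a) s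

lemma K_ext (G : Sheaf J AddCommGrpCat.{u}) (n : ℕ) {x y : ((Kf Y).obj G).X n}
    (h : ∀ a, (πK Y G n a).hom x = (πK Y G n a).hom y) : x = y :=
  pi_ext (A₁ := fun a : Fin (n + 1) → ι => G.obj.obj (op (∏ᶜ (Y ∘ a)).left)) h

/-- cochains from components -/
noncomputable def K_mk (G : Sheaf J AddCommGrpCat.{u}) (n : ℕ)
    (s : ∀ a : Fin (n + 1) → ι, G.obj.obj (op (∏ᶜ (Y ∘ a)).left)) : ((Kf Y).obj G).X n :=
  (Concrete.productEquiv (fun a : Fin (n + 1) → ι => G.obj.obj (op (∏ᶜ (Y ∘ a)).left))).symm s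

lemma πK_mk (G : Sheaf J AddCommGrpCat.{u}) (n : ℕ)
    (s : ∀ a : Fin (n + 1) → ι, G.obj.obj (op (∏ᶜ (Y ∘ a)).left)) (a : Fin (n + 1) → ι) :
    (πK Y G n a).hom (K_mk Y G n s) = s a :=
  Concrete.productEquiv_symm_apply_π _ s a

variable {I : Type u} [SmallCategory I] [IsFiltered I] {F : I ⥤ Sheaf J AddCommGrpCat.{u}}
  [Finite ι]

lemma Kf_rep (c : Cocone F)
    (hsec : ∀ (n : ℕ) (a : Fin (n + 1) → ι), SecColim c (∏ᶜ (Y ∘ a)).left) (n : ℕ)
    (x : ((Kf Y).obj c.pt).X n) :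
    ∃ (i : I) (s : ((Kf Y).obj (F.obj i)).X n), (((Kf Y).map (c.ι.app i)).f n).hom s = x := by
  choose ia sa hsa using fun a : Fin (n + 1) → ι => (hsec n a).surj ((πK Y c.pt n a).hom x)
  obtain ⟨i, hi⟩ := exists_common_obj ia
  let fa : ∀ a, ia a ⟶ i := fun a => (hi a).some
  refine ⟨i, K_mk Y (F.obj i) n (fun a => ((F.map (fa a)).hom.app _).hom (sa a)), ?_⟩
  apply K_ext
  intro a
  refine (πK_map_apply Y (c.ι.app i) n a _).trans ?_
  rw [πK_mk]
  refine Eq.trans ?_ (hsa a)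
  have := c.w (fa a)
  exact ConcreteCategory.congr_hom (congrArg (fun t => t.hom.app _) this) (sa a)

lemma Kf_kill (c : Cocone F)
    (hsec : ∀ (n : ℕ) (a : Fin (n + 1) → ι), SecColim c (∏ᶜ (Y ∘ a)).left) (n : ℕ) (i : I)
    (s : ((Kf Y).obj (F.obj i)).X n) (hs : (((Kf Y).map (c.ι.app i)).f n).hom s = 0) :
    ∃ (j : I) (f : i ⟶ j), (((Kf Y).map (F.map f)).f n).hom s = 0 := by
  have h1 : ∀ a : Fin (n + 1) → ι, ∃ (j : I) (f : i ⟶ j),
      ((F.map f).hom.app _).hom ((πK Y (F.obj i) n a).hom s) = 0 := by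
    intro a
    apply (hsec n a).inj
    refine (πK_map_apply Y (c.ι.app i) n a s).symm.trans ?_
    rw [hs, map_zero]
  obtain ⟨j, f, hjf⟩ := exists_common
    (fun (a : Fin (n + 1) → ι) j f =>
      ((F.map f).hom.app _).hom ((πK Y (F.obj i) n a).hom s) = 0)
    (by
      intro a j f j' f' h
      rw [F_map_comp_apply, h, map_zero]) h1
  refine ⟨j, f, ?_⟩
  apply K_ext
  intro a
  refine (πK_map_apply Y (F.map f) n a s).trans ?_
  rw [hjf a, map_zero]

/-- Čech-acyclicity (for a finite family) passes to filtered colimits, provided sections over the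
iterated fibre products commute with the colimit. -/
theorem isZero_cechH_colimit (c : Cocone F)
    (hsec : ∀ (n : ℕ) (a : Fin (n + 1) → ι), SecColim c (∏ᶜ (Y ∘ a)).left) (p : ℕ)
    (hF : ∀ i, IsZero (CohCx.cechH (F.obj i).obj Y (p + 1))) :
    IsZero (CohCx.cechH c.pt.obj Y (p + 1)) := by
  rw [isZero_cechH_iff]
  intro x hx
  obtain ⟨i, s, rfl⟩ := Kf_rep Y c hsec (p + 1) x
  have h1 : (((Kf Y).map (c.ι.app i)).f (p + 2)).hom
      ((((Kf Y).obj (F.obj i)).d (p + 1) (p + 2)).hom s) = 0 := by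
    have := ConcreteCategory.congr_hom (((Kf Y).map (c.ι.app i)).comm (p + 1) (p + 2)) s
    exact this.symm.trans hx
  obtain ⟨j, f, hf⟩ := Kf_kill Y c hsec (p + 2) i _ h1
  have h2 : (((Kf Y).obj (F.obj j)).d (p + 1) (p + 2)).hom
      ((((Kf Y).map (F.map f)).f (p + 1)).hom s) = 0 := by
    have := ConcreteCategory.congr_hom (((Kf Y).map (F.map f)).comm (p + 1) (p + 2)) s
    exact this.trans hf
  obtain ⟨r, hr⟩ := (isZero_cechH_iff Y (F.obj j) p).1 (hF j) _ h2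
  refine ⟨(((Kf Y).map (c.ι.app j)).f p).hom r, ?_⟩
  have h3 := ConcreteCategory.congr_hom (((Kf Y).map (c.ι.app j)).comm p (p + 1)) r
  have h4 : (Kf Y).map (F.map f) ≫ (Kf Y).map (c.ι.app j) = (Kf Y).map (c.ι.app i) := by
    rw [← Functor.map_comp, c.w]
  have h5 := ConcreteCategory.congr_hom (congrArg (fun t => t.f (p + 1)) h4) s
  refine Eq.trans h3 ?_
  refine Eq.trans ?_ h5
  exact congrArg ((((Kf Y).map (c.ι.app j)).f (p + 1)).hom) hr

end Groth.Agent.H45.ExtColim
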