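import Groth.Agent.H45.ExtColim.Preserves
import Groth.Agent.H45.ExtColim.CechColim
import Groth.Agent.S0861
import Groth.Agent.S0858

/-!
# `H^p(U, -)` commutes with filtered colimits on a class of objects with finite coverings

(helper45)
-/

set_option autoImplicit false
universe u
open CategoryTheory CategoryTheory.Limits Opposite Abelian

namespace Groth.Agent.H45.ExtColim

open Groth.Agent.H43

variable {C : Type u} [SmallCategory C] {J : GrothendieckTopology C}

section Hom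

variable {I : Type u} [SmallCategory I] {F : I ⥤ Sheaf J AddCommGrpCat.{u}}

lemma θ_zero (V : C) (M : Sheaf J AddCommGrpCat.{u}) :
    Cartan.θ J V M (0 : Cartan.Z J V ⟶ M) = 0 := by
  have h : (0 : Cartan.Z J V ⟶ M) = (0 : Cartan.Z J V ⟶ M) ≫ (0 : M ⟶ M) := by simp
  rw [h, Cartan.θ_comp]
  rfl

/-- from sections to morphisms out of the free sheaf -/
theorem homColim_of_secColim {c : Cocone F} {U : C} (h : SecColim c U) :
    HomColim (CohCx.freeSheaf J U) c where
  surj y := by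
    obtain ⟨i, s, hs⟩ := h.surj (Cartan.θ J U c.pt y)
    refine ⟨i, (Cartan.θ J U (F.obj i)).symm s, ?_⟩
    apply (Cartan.θ J U c.pt).injective
    refine (Cartan.θ_comp J U _ _).trans ?_
    rw [Equiv.apply_symm_apply]
    exact hs
  inj i x hx := by
    have h1 : ((c.ι.app i).hom.app (op U)).hom (Cartan.θ J U (F.obj i) x) = 0 := by
      have := Cartan.θ_comp J U x (c.ι.app i)
      rw [← this]
      refine Eq.trans (congrArg _ hx) ?_
      exact θ_zero U c.pt
    obtain ⟨j, f, hf⟩ := h.inj i _ h1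
    refine ⟨j, f, ?_⟩
    apply (Cartan.θ J U (F.obj j)).injective
    refine (Cartan.θ_comp J U _ _).trans ?_
    rw [hf]
    exact (θ_zero U _).symm

end Hom

variable [HasPullbacks C] (B : Set C) (Cov : ∀ (U : C) (ι : Type u), (ι → Over U) → Prop)
    (h1 : ∀ (U : C) (ι : Type u) (Y : ι → Over U), Cov U ι Y → Finite ι ∧ U ∈ B ∧
      Sieve.ofArrows (fun i => (Y i).left) (fun i => (Y i).hom) ∈ J U ∧
      ∀ (p : ℕ) (a : Fin (p + 1) → ι), (∏ᶜ fun k => Y (a k)).left ∈ B)
    (h2 : ∀ U ∈ B, ∀ T ∈ J U, ∃ (ι : Type u) (Y : ι → Over U), Cov U ι Y ∧ ∀ i, T.arrows (Y i).hom)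

include h1 h2 in
lemma finCov_of_mem {V : C} (hV : V ∈ B) : FinCov J V := by
  intro T hT
  obtain ⟨ι, Y, hCov, hYT⟩ := h2 V hV T hT
  obtain ⟨hfin, -, hcov, -⟩ := h1 V ι Y hCov
  exact ⟨ι, hfin, fun i => (Y i).left, fun i => (Y i).hom, hYT, hcov⟩

include h1 h2 in
lemma finCov₂_of_mem {V : C} (hV : V ∈ B) : FinCov₂ J V := by
  intro T hT
  obtain ⟨ι, Y, hCov, hYT⟩ := h2 V hV T hT
  obtain ⟨hfin, -, hcov, hB⟩ := h1 V ι Y hCov
  refine ⟨ι, hfin, fun i => (Y i).left, fun i => (Y i).hom, hYT, hcov, fun k l => ?_⟩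
  let a : Fin 2 → ι := ![k, l]
  refine ⟨(∏ᶜ fun m => Y (a m)).left, (Pi.π (fun m => Y (a m)) 0).left,
    (Pi.π (fun m => Y (a m)) 1).left, ?_, finCov_of_mem B Cov h1 h2 (hB 1 a), ?_⟩
  · exact (Over.w (Pi.π (fun m => Y (a m)) 0)).trans (Over.w (Pi.π (fun m => Y (a m)) 1)).symm
  · intro Z x y hxy
    let Z' : Over V := Over.mk (x ≫ (Y k).hom)
    let fam : ∀ m : Fin 2, Z' ⟶ Y (a m) :=
      Fin.cases (motive := fun m => Z' ⟶ Y (a m)) (Over.homMk x rfl)
        (fun i => Fin.cases (motive := fun i : Fin 1 => Z' ⟶ Y (a i.succ))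
          (Over.homMk y hxy.symm) (fun j => j.elim0) i)
    refine ⟨(Pi.lift fam).left, ?_, ?_⟩
    · exact congrArg CommaMorphism.left (Pi.lift_π fam 0)
    · exact congrArg CommaMorphism.left (Pi.lift_π fam 1)

include h1 h2 in
/-- **Main theorem**: for `U ∈ B`, `Ext^p(ℤ[h_U]^#, -)` preserves filtered colimits. -/
theorem preservesColimit_ext_freeSheaf (U : C) (hU : U ∈ B) (p : ℕ) {I : Type u} [SmallCategory I]
    [IsFiltered I] (F : I ⥤ Sheaf J AddCommGrpCat.{u}) :
    PreservesColimit F (extFunctorObj (CohCx.freeSheaf J U) p) := by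
  apply preservesColimit_extFunctorObj _ p F (colimit.isColimit F)
  refine extColim_colimit (CohCx.freeSheaf J U) ?_ ?_ p F
  · intro I _ _ F
    exact homColim_of_secColim
      (secColim_of_isColimit F (colimit.isColimit F) (finCov₂_of_mem B Cov h1 h2 hU))
  · intro I _ _ G hG n x
    have h3 : ∀ (U : C) (ι : Type u) (Y : ι → Over U), Cov U ι Y →
        ∀ p : ℕ, IsZero (CohCx.cechH (colimit G).obj Y (p + 1)) := by
      intro V ι Y hCov q
      obtain ⟨hfin, -, hcov, hB⟩ := h1 V ι Y hCov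
      exact isZero_cechH_colimit Y (colimit.cocone G)
        (fun n a => secColim_of_isColimit G (colimit.isColimit G)
          (finCov₂_of_mem B Cov h1 h2 (hB n a))) q
        (fun i => Groth.Agent.S0858.result J (G.obj i) Y hcov q)
    have hsub : Subsingleton (CohSite.HU (colimit G) (n + 1) U) :=
      Groth.Agent.S0861.result J B Cov
        (fun V ι Y hCov => ⟨(h1 V ι Y hCov).2.1, (h1 V ι Y hCov).2.2.1, (h1 V ι Y hCov).2.2.2⟩)
        h2 (colimit G) h3 U hU n
    exact @Subsingleton.elim _ hsub x 0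

end Groth.Agent.H45.ExtColim
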