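import Groth.Agent.H45.ExtColim.Embedding
import Mathlib.Algebra.Homology.ShortComplex.ExactFunctor

/-!
# Main abstract theorem: `Ext^n(Z,-)` commutes with filtered colimits

(helper45)
-/

set_option autoImplicit false

namespace Groth.Agent.H45.ExtColim

open CategoryTheory Limits Abelian Opposite

universe w v u

variable {𝒜 : Type u} [Category.{v} 𝒜] [Abelian 𝒜] [HasExt.{w} 𝒜] [EnoughInjectives 𝒜]
  [HasProducts.{v} 𝒜] [HasFilteredColimitsOfSize.{v, v} 𝒜] [AB5OfSize.{v, v} 𝒜]

instance colim_additive {I : Type v} [SmallCategory I] [IsFiltered I] :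
    (colim : (I ⥤ 𝒜) ⥤ 𝒜).Additive :=
  haveI : PreservesFiniteLimits (colim : (I ⥤ 𝒜) ⥤ 𝒜) :=
    HasExactColimitsOfShape.preservesFiniteLimits
  haveI := preservesBinaryBiproducts_of_preservesBinaryProducts (colim : (I ⥤ 𝒜) ⥤ 𝒜)
  Functor.additive_of_preservesBinaryBiproducts _

theorem extColim_colimit (Z : 𝒜)
    (h0 : ∀ {I : Type v} [SmallCategory I] [IsFiltered I] (F : I ⥤ 𝒜),
      HomColim Z (colimit.cocone F))
    (h1 : ∀ {I : Type v} [SmallCategory I] [IsFiltered I] (G : I ⥤ 𝒜),
      (∀ i, Injective (G.obj i)) → ∀ (n : ℕ) (x : Ext Z (colimit G) (n + 1)), x = 0)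
    (n : ℕ) : ∀ {I : Type v} [SmallCategory I] [IsFiltered I] (F : I ⥤ 𝒜),
      ExtColim Z n (colimit.cocone F) := by
  induction n with
  | zero =>
    intro I _ _ F
    exact ExtColim.zero (h0 F)
  | succ n ih =>
    intro I _ _ F
    let G := injEmb F
    let α : F ⟶ G := injEmbι F
    let S : ShortComplex (I ⥤ 𝒜) := ShortComplex.mk α (cokernel.π α) (cokernel.condition α)
    have hS : S.ShortExact := { exact := ShortComplex.exact_cokernel α }
    have hSi : ∀ i, (S.map ((evaluation I 𝒜).obj i)).ShortExact := fun i => hS.map_of_exact _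
    have hSc : (S.map colim).ShortExact := hS.map_of_exact _
    exact ExtColim.step (F := F) (G := G) (Q := cokernel α) α (cokernel.π α)
      (fun i => (S.map ((evaluation I 𝒜).obj i)).zero) (fun i => hSi i)
      (cF := colimit.cocone F) (cG := colimit.cocone G) (cQ := colimit.cocone (cokernel α))
      (colimMap α) (colimMap (cokernel.π α))
      (fun i => ι_colimMap α i) (fun i => ι_colimMap (cokernel.π α) i)
      (S.map colim).zero hSc n
      (fun i x => Ext.eq_zero_of_injective x) (fun x => h1 G (fun i => inferInstance) n x)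
      (ih G) (ih _)

end Groth.Agent.H45.ExtColim
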