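import Mathlib.Algebra.Homology.DerivedCategory.Ext.ExactSequences
import Mathlib.Algebra.Homology.DerivedCategory.Ext.EnoughInjectives
import Mathlib.CategoryTheory.Abelian.GrothendieckAxioms.Basic
import Mathlib.CategoryTheory.Filtered.Basic

/-!
# `Ext^n(Z, -)` commutes with filtered colimits: abstract dimension shifting

(helper45)  Elementwise formulation: `ExtColim Z n c` says that the cocone `c` of a diagram
`F : I ⥤ 𝒜` induces a bijection `colim_i Ext^n(Z, F i) ≃ Ext^n(Z, c.pt)`.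
-/

set_option autoImplicit false

namespace Groth.Agent.H45.ExtColim

open CategoryTheory Limits Abelian Opposite

universe w v u w₁ w₂

variable {𝒜 : Type u} [Category.{v} 𝒜] [Abelian 𝒜] [HasExt.{w} 𝒜]

/-- `colim_i Hom(Z, F i) → Hom(Z, c.pt)` is bijective (elementwise form). -/
structure HomColim (Z : 𝒜) {I : Type w₁} [Category.{w₂} I] {F : I ⥤ 𝒜} (c : Cocone F) : Prop where
  surj : ∀ y : Z ⟶ c.pt, ∃ (i : I) (x : Z ⟶ F.obj i), x ≫ c.ι.app i = y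
  inj : ∀ (i : I) (x : Z ⟶ F.obj i), x ≫ c.ι.app i = 0 → ∃ (j : I) (f : i ⟶ j), x ≫ F.map f = 0

/-- `colim_i Ext^n(Z, F i) → Ext^n(Z, c.pt)` is bijective (elementwise form). -/
structure ExtColim (Z : 𝒜) (n : ℕ) {I : Type w₁} [Category.{w₂} I] {F : I ⥤ 𝒜} (c : Cocone F) :
    Prop where
  surj : ∀ y : Ext Z c.pt n, ∃ (i : I) (x : Ext Z (F.obj i) n),
    x.comp (Ext.mk₀ (c.ι.app i)) (add_zero n) = y
  inj : ∀ (i : I) (x : Ext Z (F.obj i) n), x.comp (Ext.mk₀ (c.ι.app i)) (add_zero n) = 0 →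
    ∃ (j : I) (f : i ⟶ j), x.comp (Ext.mk₀ (F.map f)) (add_zero n) = 0

lemma ExtColim.zero {Z : 𝒜} {I : Type w₁} [Category.{w₂} I] {F : I ⥤ 𝒜} {c : Cocone F}
    (h : HomColim Z c) : ExtColim Z 0 c where
  surj y := by
    obtain ⟨y', rfl⟩ := (Ext.mk₀_bijective Z c.pt).2 y
    obtain ⟨i, x, rfl⟩ := h.surj y'
    exact ⟨i, Ext.mk₀ x, by rw [Ext.mk₀_comp_mk₀]⟩
  inj i x hx := by
    obtain ⟨x', rfl⟩ := (Ext.mk₀_bijective Z (F.obj i)).2 x
    rw [Ext.mk₀_comp_mk₀] at hx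
    have hx' : x' ≫ c.ι.app i = 0 := by
      apply (Ext.mk₀_bijective Z c.pt).1
      rw [hx, Ext.mk₀_zero]
    obtain ⟨j, f, hf⟩ := h.inj i x' hx'
    exact ⟨j, f, by rw [Ext.mk₀_comp_mk₀, hf, Ext.mk₀_zero]⟩

lemma sub_comp' {X Y Z : 𝒜} {n : ℕ} (α₁ α₂ : Ext X Y n) {m : ℕ} (β : Ext Y Z m) {p : ℕ}
    (h : n + m = p) : (α₁ - α₂).comp β h = α₁.comp β h - α₂.comp β h := by
  rw [sub_eq_add_neg, Ext.add_comp, Ext.neg_comp, ← sub_eq_add_neg]

section Step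

variable {Z : 𝒜} {I : Type w₁} [Category.{w₂} I] {F G Q : I ⥤ 𝒜}

/-- the morphism of short complexes from the `i`-th term to the colimit -/
@[simps]
def toColim (α : F ⟶ G) (β : G ⟶ Q) (w : ∀ i, α.app i ≫ β.app i = 0)
    {cF : Cocone F} {cG : Cocone G} {cQ : Cocone Q} (a : cF.pt ⟶ cG.pt) (b : cG.pt ⟶ cQ.pt)
    (ha : ∀ i, cF.ι.app i ≫ a = α.app i ≫ cG.ι.app i)
    (hb : ∀ i, cG.ι.app i ≫ b = β.app i ≫ cQ.ι.app i)
    (wab : a ≫ b = 0) (i : I) :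
    ShortComplex.mk (α.app i) (β.app i) (w i) ⟶ ShortComplex.mk a b wab where
  τ₁ := cF.ι.app i
  τ₂ := cG.ι.app i
  τ₃ := cQ.ι.app i
  comm₁₂ := ha i
  comm₂₃ := hb i

/-- the transition morphism of short complexes -/
@[simps]
def trans (α : F ⟶ G) (β : G ⟶ Q) (w : ∀ i, α.app i ≫ β.app i = 0) {i j : I} (f : i ⟶ j) :
    ShortComplex.mk (α.app i) (β.app i) (w i) ⟶ ShortComplex.mk (α.app j) (β.app j) (w j) where
  τ₁ := F.map f
  τ₂ := G.map f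
  τ₃ := Q.map f
  comm₁₂ := α.naturality f
  comm₂₃ := β.naturality f

lemma extClass_toColim (α : F ⟶ G) (β : G ⟶ Q) (w : ∀ i, α.app i ≫ β.app i = 0)
    (hαβ : ∀ i, (ShortComplex.mk (α.app i) (β.app i) (w i)).ShortExact)
    {cF : Cocone F} {cG : Cocone G} {cQ : Cocone Q} (a : cF.pt ⟶ cG.pt) (b : cG.pt ⟶ cQ.pt)
    (ha : ∀ i, cF.ι.app i ≫ a = α.app i ≫ cG.ι.app i)
    (hb : ∀ i, cG.ι.app i ≫ b = β.app i ≫ cQ.ι.app i)
    (wab : a ≫ b = 0) (hab : (ShortComplex.mk a b wab).ShortExact) (i : I) :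
    (hαβ i).extClass.comp (Ext.mk₀ (cF.ι.app i)) (add_zero 1) =
      (Ext.mk₀ (cQ.ι.app i)).comp hab.extClass (zero_add 1) :=
  ShortComplex.ShortExact.extClass_naturality (hαβ i) hab (toColim α β w a b ha hb wab i)

lemma extClass_trans (α : F ⟶ G) (β : G ⟶ Q) (w : ∀ i, α.app i ≫ β.app i = 0)
    (hαβ : ∀ i, (ShortComplex.mk (α.app i) (β.app i) (w i)).ShortExact) {i j : I} (f : i ⟶ j) :
    (hαβ i).extClass.comp (Ext.mk₀ (F.map f)) (add_zero 1) =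
      (Ext.mk₀ (Q.map f)).comp (hαβ j).extClass (zero_add 1) :=
  ShortComplex.ShortExact.extClass_naturality (hαβ i) (hαβ j) (trans α β w f)

theorem ExtColim.step [IsFiltered I] (α : F ⟶ G) (β : G ⟶ Q) (w : ∀ i, α.app i ≫ β.app i = 0)
    (hαβ : ∀ i, (ShortComplex.mk (α.app i) (β.app i) (w i)).ShortExact)
    {cF : Cocone F} {cG : Cocone G} {cQ : Cocone Q} (a : cF.pt ⟶ cG.pt) (b : cG.pt ⟶ cQ.pt)
    (ha : ∀ i, cF.ι.app i ≫ a = α.app i ≫ cG.ι.app i)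
    (hb : ∀ i, cG.ι.app i ≫ b = β.app i ≫ cQ.ι.app i)
    (wab : a ≫ b = 0) (hab : (ShortComplex.mk a b wab).ShortExact) (n : ℕ)
    (hGi : ∀ (i : I) (x : Ext Z (G.obj i) (n + 1)), x = 0)
    (hG : ∀ x : Ext Z cG.pt (n + 1), x = 0)
    (eG : ExtColim Z n cG) (eQ : ExtColim Z n cQ) : ExtColim Z (n + 1) cF where
  surj y := by
    obtain ⟨x₃, rfl⟩ := Ext.covariant_sequence_exact₁ Z hab y (hG _) (rfl : n + 1 = n + 1)
    obtain ⟨i, z, rfl⟩ := eQ.surj x₃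
    refine ⟨i, z.comp (hαβ i).extClass rfl, ?_⟩
    rw [Ext.comp_assoc_of_third_deg_zero, extClass_toColim α β w hαβ a b ha hb wab hab i,
      ← Ext.comp_assoc_of_second_deg_zero]
  inj i x hx := by
    obtain ⟨z, rfl⟩ := Ext.covariant_sequence_exact₁ Z (hαβ i) x (hGi i _) (rfl : n + 1 = n + 1)
    have h1 : (z.comp (Ext.mk₀ (cQ.ι.app i)) (add_zero n)).comp hab.extClass rfl = 0 := by
      rw [Ext.comp_assoc_of_second_deg_zero, ← extClass_toColim α β w hαβ a b ha hb wab hab i,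
        ← Ext.comp_assoc_of_third_deg_zero]
      exact hx
    obtain ⟨y, hy⟩ := Ext.covariant_sequence_exact₃ Z hab _ rfl h1
    obtain ⟨j, yj, rfl⟩ := eG.surj y
    let k := IsFiltered.max i j
    let fi : i ⟶ k := IsFiltered.leftToMax i j
    let fj : j ⟶ k := IsFiltered.rightToMax i j
    let d : Ext Z (Q.obj k) n := z.comp (Ext.mk₀ (Q.map fi)) (add_zero n) -
      (yj.comp (Ext.mk₀ (G.map fj)) (add_zero n)).comp (Ext.mk₀ (β.app k)) (add_zero n)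
    have hd : d.comp (Ext.mk₀ (cQ.ι.app k)) (add_zero n) = 0 := by
      dsimp only [d]
      rw [sub_comp', Ext.comp_assoc_of_third_deg_zero, Ext.mk₀_comp_mk₀, cQ.w,
        Ext.comp_assoc_of_third_deg_zero, Ext.comp_assoc_of_third_deg_zero, Ext.mk₀_comp_mk₀,
        Ext.mk₀_comp_mk₀, ← hb, cG.w_assoc, sub_eq_zero, ← hy, Ext.comp_assoc_of_third_deg_zero,
        Ext.mk₀_comp_mk₀]
    obtain ⟨m, fm, hm⟩ := eQ.inj k d hd
    refine ⟨m, fi ≫ fm, ?_⟩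
    rw [Ext.comp_assoc_of_third_deg_zero, extClass_trans α β w hαβ (fi ≫ fm),
      ← Ext.comp_assoc_of_second_deg_zero]
    have h2 : z.comp (Ext.mk₀ (Q.map (fi ≫ fm))) (add_zero n) =
        ((yj.comp (Ext.mk₀ (G.map fj)) (add_zero n)).comp (Ext.mk₀ (G.map fm)) (add_zero n)).comp
          (Ext.mk₀ (β.app m)) (add_zero n) := by
      dsimp only [d] at hm
      rw [sub_comp', sub_eq_zero] at hm
      rw [Q.map_comp, ← Ext.mk₀_comp_mk₀, ← Ext.comp_assoc_of_third_deg_zero, hm,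
        Ext.comp_assoc_of_third_deg_zero, Ext.mk₀_comp_mk₀, ← β.naturality,
        ← Ext.mk₀_comp_mk₀, ← Ext.comp_assoc_of_third_deg_zero]
    rw [h2, Ext.comp_assoc_of_second_deg_zero]
    have := (hαβ m).comp_extClass
    dsimp at this
    rw [this, Ext.comp_zero]

end Step

end Groth.Agent.H45.ExtColim
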