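import Groth.Agent.H45.ExtColim.Abstract
import Mathlib.CategoryTheory.Preadditive.Injective.Basic
import Mathlib.CategoryTheory.Abelian.FunctorCategory

/-!
# Componentwise injective embedding of a diagram, and the main abstract theorem

(helper45)
-/

set_option autoImplicit false

namespace Groth.Agent.H45.ExtColim

open CategoryTheory Limits Abelian Opposite

universe w v u w₁ w₂

section Emb

variable {𝒜 : Type u} [Category.{v} 𝒜] [Abelian 𝒜] [EnoughInjectives 𝒜]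
  {I : Type w₁} [Category.{w₂} I] [HasProducts.{max w₁ w₂} 𝒜]

/-- the family of injective hulls indexed by arrows out of `j` -/
noncomputable abbrev injFam (F : I ⥤ 𝒜) (j : I) : (Σ i : I, (j ⟶ i)) → 𝒜 :=
  fun p => Injective.under (F.obj p.1)

lemma π_congr (F : I ⥤ 𝒜) (j : I) {i : I} {g g' : j ⟶ i} (h : g = g') :
    Pi.π (injFam F j) ⟨i, g⟩ = Pi.π (injFam F j) ⟨i, g'⟩ := by
  subst h
  rfl

/-- A diagram of injective objects receiving `F`. -/
noncomputable def injEmb (F : I ⥤ 𝒜) : I ⥤ 𝒜 where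
  obj j := ∏ᶜ injFam F j
  map {j j'} f := Pi.lift fun p : (Σ i : I, (j' ⟶ i)) => Pi.π (injFam F j) ⟨p.1, f ≫ p.2⟩
  map_id j := by
    apply Pi.hom_ext
    rintro ⟨i, g⟩
    rw [Pi.lift_π]
    exact (π_congr F j (Category.id_comp g)).trans (Category.id_comp _).symm
  map_comp {j j' j''} f g := by
    apply Pi.hom_ext
    rintro ⟨i, h⟩
    rw [Category.assoc, Pi.lift_π, Pi.lift_π, Pi.lift_π]
    exact π_congr F j (Category.assoc f g h)

/-- projections of `injEmb` -/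
noncomputable def injEmbπ (F : I ⥤ 𝒜) (j : I) (p : Σ i : I, (j ⟶ i)) :
    (injEmb F).obj j ⟶ Injective.under (F.obj p.1) :=
  Pi.π (injFam F j) p

lemma injEmb_hom_ext (F : I ⥤ 𝒜) (j : I) {X : 𝒜} {f g : X ⟶ (injEmb F).obj j}
    (h : ∀ p, f ≫ injEmbπ F j p = g ≫ injEmbπ F j p) : f = g :=
  Pi.hom_ext _ _ h

lemma injEmb_map_π (F : I ⥤ 𝒜) {j j' : I} (f : j ⟶ j') (p : Σ i : I, (j' ⟶ i)) :
    (injEmb F).map f ≫ injEmbπ F j' p = injEmbπ F j ⟨p.1, f ≫ p.2⟩ :=
  Pi.lift_π _ _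

/-- components of the embedding -/
noncomputable def injEmbιApp (F : I ⥤ 𝒜) (j : I) : F.obj j ⟶ (injEmb F).obj j :=
  Pi.lift fun p : (Σ i : I, (j ⟶ i)) => F.map p.2 ≫ Injective.ι (F.obj p.1)

lemma injEmbιApp_π (F : I ⥤ 𝒜) (j : I) (p : Σ i : I, (j ⟶ i)) :
    injEmbιApp F j ≫ injEmbπ F j p = F.map p.2 ≫ Injective.ι (F.obj p.1) :=
  Pi.lift_π _ _

/-- the embedding -/
noncomputable def injEmbι (F : I ⥤ 𝒜) : F ⟶ injEmb F where
  app j := injEmbιApp F j
  naturality j j' f := by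
    apply injEmb_hom_ext
    rintro ⟨i, h⟩
    rw [Category.assoc, Category.assoc, injEmb_map_π, injEmbιApp_π, injEmbιApp_π, F.map_comp,
      Category.assoc]

instance (F : I ⥤ 𝒜) (j : I) : Mono ((injEmbι F).app j) := by
  have h : (injEmbι F).app j ≫ injEmbπ F j ⟨j, 𝟙 j⟩ = Injective.ι (F.obj j) := by
    change injEmbιApp F j ≫ _ = _
    rw [injEmbιApp_π, F.map_id, Category.id_comp]
  exact mono_of_mono_fac h

instance (F : I ⥤ 𝒜) (j : I) : Injective ((injEmb F).obj j) := by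
  dsimp [injEmb]
  infer_instance

instance (F : I ⥤ 𝒜) : Mono (injEmbι F) := NatTrans.mono_of_mono_app _

end Emb

end Groth.Agent.H45.ExtColim
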