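import Groth.Agent.H45.ExtColim.Main
import Mathlib.Algebra.Category.Grp.FilteredColimits
import Mathlib.CategoryTheory.Limits.Types.Filtered

/-!
# From the elementwise statement to `PreservesColimit`

(helper45)
-/

set_option autoImplicit false

namespace Groth.Agent.H45.ExtColim

open CategoryTheory Limits Abelian Opposite

universe v u

variable {𝒜 : Type u} [Category.{v} 𝒜] [Abelian 𝒜] [HasExt.{v} 𝒜]

theorem preservesColimit_extFunctorObj (Z : 𝒜) (n : ℕ) {I : Type v} [SmallCategory I]
    [IsFiltered I] (F : I ⥤ 𝒜) {c : Cocone F} (hc : IsColimit c) (h : ExtColim Z n c) :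
    PreservesColimit F (extFunctorObj Z n) := by
  apply preservesColimit_of_preserves_colimit_cocone hc
  haveI : ReflectsColimitsOfShape I (forget AddCommGrpCat.{v}) :=
    reflectsColimitsOfShape_of_reflectsIsomorphisms
  apply isColimitOfReflects (forget AddCommGrpCat.{v})
  refine Types.FilteredColimit.isColimitOf' _ _ ?_ ?_
  · intro (y : Ext Z c.pt n)
    obtain ⟨i, x, hx⟩ := h.surj y
    exact ⟨i, x, hx.symm⟩
  · intro i (x : Ext Z (F.obj i) n) (y : Ext Z (F.obj i) n) hxy
    have hxy' : x.comp (Ext.mk₀ (c.ι.app i)) (add_zero n) =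
        y.comp (Ext.mk₀ (c.ι.app i)) (add_zero n) := hxy
    obtain ⟨j, f, hf⟩ := h.inj i (x - y) (by rw [sub_comp', hxy', sub_self])
    refine ⟨j, f, ?_⟩
    rw [sub_comp', sub_eq_zero] at hf
    exact hf

end Groth.Agent.H45.ExtColim
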