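import Groth.Agent.H45.QC.SectionsCoprod

/-!
# Sections over finitely coverable objects commute with filtered colimits of abelian sheaves

(helper45)  Elementwise form `SecColim`.
-/

set_option autoImplicit false
universe u
open CategoryTheory CategoryTheory.Limits Opposite

namespace Groth.Agent.H45.ExtColim

section Filtered

variable {I : Type*} [Category I] [IsFiltered I]

/-- a finite family of "eventually true" properties of arrows out of `i` holds simultaneously -/
lemma exists_common {i : I} {κ : Type*} [Finite κ] (Pk : κ → ∀ j : I, (i ⟶ j) → Prop)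
    (hup : ∀ (k : κ) (j : I) (f : i ⟶ j) (j' : I) (g : j ⟶ j'), Pk k j f → Pk k j' (f ≫ g))
    (h : ∀ k, ∃ (j : I) (f : i ⟶ j), Pk k j f) : ∃ (j : I) (f : i ⟶ j), ∀ k, Pk k j f := by
  classical
  haveI := Fintype.ofFinite κ
  suffices H : ∀ s : Finset κ, ∃ (j : I) (f : i ⟶ j), ∀ k ∈ s, Pk k j f by
    obtain ⟨j, f, hjf⟩ := H Finset.univ
    exact ⟨j, f, fun k => hjf k (Finset.mem_univ k)⟩
  intro s
  induction s using Finset.induction_on with
  | empty => exact ⟨i, 𝟙 i, fun k hk => absurd hk (Finset.notMem_empty k)⟩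
  | insert k s hk ih =>
    obtain ⟨j, f, hjf⟩ := ih
    obtain ⟨jk, fk, hk'⟩ := h k
    obtain ⟨m, g, g', e⟩ := IsFiltered.span f fk
    refine ⟨m, f ≫ g, fun k' hk'' => ?_⟩
    rcases Finset.mem_insert.1 hk'' with rfl | h'
    · rw [e]
      exact hup _ _ _ _ _ hk'
    · exact hup _ _ _ _ _ (hjf k' h')

/-- finitely many objects of a filtered category map to a common object -/
lemma exists_common_obj {κ : Type*} [Finite κ] (i : κ → I) : ∃ m : I, ∀ k, Nonempty (i k ⟶ m) := by
  classical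
  haveI := Fintype.ofFinite κ
  obtain ⟨m, hm⟩ := IsFiltered.sup_objs_exists (Finset.univ.image i)
  exact ⟨m, fun k => hm (Finset.mem_image_of_mem i (Finset.mem_univ k))⟩

end Filtered

variable {C : Type u} [SmallCategory C] {J : GrothendieckTopology C}

/-- Every covering sieve of `U` contains a finite covering family. -/
def FinCov (J : GrothendieckTopology C) (U : C) : Prop :=
  ∀ T ∈ J U, ∃ (κ : Type u) (_ : Finite κ) (Y : κ → C) (g : ∀ k, Y k ⟶ U),
    (∀ k, T.arrows (g k)) ∧ Sieve.ofArrows Y g ∈ J U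

/-- Every covering sieve of `U` contains a finite covering family whose pairwise "fibre products"
are finitely coverable. -/
def FinCov₂ (J : GrothendieckTopology C) (U : C) : Prop :=
  ∀ T ∈ J U, ∃ (κ : Type u) (_ : Finite κ) (Y : κ → C) (g : ∀ k, Y k ⟶ U),
    (∀ k, T.arrows (g k)) ∧ Sieve.ofArrows Y g ∈ J U ∧
    ∀ k l, ∃ (W : C) (p₁ : W ⟶ Y k) (p₂ : W ⟶ Y l), p₁ ≫ g k = p₂ ≫ g l ∧ FinCov J W ∧
      ∀ (Z : C) (a : Z ⟶ Y k) (b : Z ⟶ Y l), a ≫ g k = b ≫ g l →
        ∃ h : Z ⟶ W, h ≫ p₁ = a ∧ h ≫ p₂ = b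

lemma FinCov₂.finCov {U : C} (h : FinCov₂ J U) : FinCov J U := by
  intro T hT
  obtain ⟨κ, hκ, Y, g, h1, h2, -⟩ := h T hT
  exact ⟨κ, hκ, Y, g, h1, h2⟩

variable {I : Type u} [SmallCategory I] (F : I ⥤ Sheaf J AddCommGrpCat.{u})

/-- `colim_i F_i(V) → c.pt(V)` is bijective (elementwise form). -/
structure SecColim {F : I ⥤ Sheaf J AddCommGrpCat.{u}} (c : Cocone F) (V : C) : Prop where
  surj : ∀ t : c.pt.obj.obj (op V), ∃ (i : I) (s : (F.obj i).obj.obj (op V)),
    ((c.ι.app i).hom.app (op V)).hom s = t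
  inj : ∀ (i : I) (s : (F.obj i).obj.obj (op V)), ((c.ι.app i).hom.app (op V)).hom s = 0 →
    ∃ (j : I) (f : i ⟶ j), ((F.map f).hom.app (op V)).hom s = 0

lemma SecColim.of_iso {F : I ⥤ Sheaf J AddCommGrpCat.{u}} {c c' : Cocone F} (e : c ≅ c') {V : C}
    (h : SecColim c V) : SecColim c' V where
  surj t := by
    obtain ⟨i, s, hs⟩ := h.surj ((e.inv.hom.hom.app (op V)).hom t)
    refine ⟨i, s, ?_⟩
    have h1 : c.ι.app i ≫ e.hom.hom = c'.ι.app i := e.hom.w i
    rw [← h1]
    change (e.hom.hom.hom.app (op V)).hom (((c.ι.app i).hom.app (op V)).hom s) = t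
    rw [hs]
    have h2 : e.inv.hom ≫ e.hom.hom = 𝟙 _ := by
      rw [← Cocone.category_comp_hom, e.inv_hom_id]; rfl
    have h3 := congrArg (fun m => (m.hom.app (op V)).hom t) h2
    exact h3
  inj i s hs := by
    apply h.inj i s
    have h1 : c'.ι.app i ≫ e.inv.hom = c.ι.app i := e.inv.w i
    rw [← h1]
    change (e.inv.hom.hom.app (op V)).hom (((c'.ι.app i).hom.app (op V)).hom s) = 0
    rw [hs, map_zero]

/-- the diagram of underlying presheaves -/
noncomputable abbrev Fp : I ⥤ Cᵒᵖ ⥤ AddCommGrpCat.{u} := F ⋙ sheafToPresheaf J AddCommGrpCat.{u}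

variable [IsFiltered I]

lemma P_rep (V : Cᵒᵖ) (x : (colimit (Fp F)).obj V) :
    ∃ (i : I) (s : (F.obj i).obj.obj V), ((colimit.ι (Fp F) i).app V).hom s = x := by
  have h := isColimitOfPreserves ((evaluation Cᵒᵖ AddCommGrpCat.{u}).obj V)
    (colimit.isColimit (Fp F))
  obtain ⟨i, s, hs⟩ :=
    Concrete.isColimit_exists_rep (Fp F ⋙ (evaluation Cᵒᵖ AddCommGrpCat.{u}).obj V) h x
  exact ⟨i, s, hs⟩

lemma P_eq_zero (V : Cᵒᵖ) (i : I) (s : (F.obj i).obj.obj V)
    (hs : ((colimit.ι (Fp F) i).app V).hom s = 0) :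
    ∃ (j : I) (f : i ⟶ j), ((F.map f).hom.app V).hom s = 0 := by
  have h := isColimitOfPreserves ((evaluation Cᵒᵖ AddCommGrpCat.{u}).obj V)
    (colimit.isColimit (Fp F))
  obtain ⟨k, f, g, hfg⟩ := (Concrete.isColimit_rep_eq_iff_exists
    (Fp F ⋙ (evaluation Cᵒᵖ AddCommGrpCat.{u}).obj V) h s (0 : (F.obj i).obj.obj V)).1 (by
      refine Eq.trans hs ?_
      exact (map_zero _).symm)
  refine ⟨k, f, ?_⟩
  refine Eq.trans hfg ?_
  exact map_zero _

omit [IsFiltered I]

/-- the explicit colimit cocone: sheafification of the presheaf colimit -/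
noncomputable abbrev shCocone : Cocone F := Sheaf.sheafifyCocone (colimit.cocone (Fp F))

/-- it is a colimit cocone -/
noncomputable def shCoconeIsColimit : IsColimit (shCocone F) :=
  Sheaf.isColimitSheafifyCocone _ (colimit.isColimit (Fp F))

lemma shCocone_ι_apply (i : I) (V : Cᵒᵖ) (s : (F.obj i).obj.obj V) :
    (((shCocone F).ι.app i).hom.app V).hom s =
      ((toSheafify J (colimit (Fp F))).app V).hom (((colimit.ι (Fp F) i).app V).hom s) := by
  have := Sheaf.sheafifyCocone_ι_app_val (colimit.cocone (Fp F)) i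
  exact ConcreteCategory.congr_hom (congrArg (fun t => t.app V) this) s

lemma F_map_comp_apply {i j k : I} (f : i ⟶ j) (g : j ⟶ k) (V : Cᵒᵖ) (s : (F.obj i).obj.obj V) :
    ((F.map (f ≫ g)).hom.app V).hom s = ((F.map g).hom.app V).hom (((F.map f).hom.app V).hom s) := by
  rw [F.map_comp]
  rfl

lemma F_map_res {i j : I} (f : i ⟶ j) {V W : C} (g : W ⟶ V) (s : (F.obj i).obj.obj (op V)) :
    ((F.obj j).obj.map g.op).hom (((F.map f).hom.app (op V)).hom s) =
      ((F.map f).hom.app (op W)).hom (((F.obj i).obj.map g.op).hom s) :=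
  (ConcreteCategory.congr_hom ((F.map f).hom.naturality g.op) s).symm

lemma colimι_res (i : I) {V W : C} (g : W ⟶ V) (s : (F.obj i).obj.obj (op V)) :
    ((colimit (Fp F)).map g.op).hom (((colimit.ι (Fp F) i).app (op V)).hom s) =
      ((colimit.ι (Fp F) i).app (op W)).hom (((F.obj i).obj.map g.op).hom s) :=
  (ConcreteCategory.congr_hom ((colimit.ι (Fp F) i).naturality g.op) s).symm

lemma colimι_map {i j : I} (f : i ⟶ j) (V : Cᵒᵖ) (s : (F.obj i).obj.obj V) :
    ((colimit.ι (Fp F) j).app V).hom (((F.map f).hom.app V).hom s) =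
      ((colimit.ι (Fp F) i).app V).hom s := by
  have := colimit.w (Fp F) f
  exact ConcreteCategory.congr_hom (congrArg (fun t => t.app V) this) s

variable [IsFiltered I]

/-- injectivity part: uses only that `U` is finitely coverable. -/
theorem locInj {U : C} (hU : FinCov J U) (i : I) (s : (F.obj i).obj.obj (op U))
    (hs : (((shCocone F).ι.app i).hom.app (op U)).hom s = 0) :
    ∃ (j : I) (f : i ⟶ j), ((F.map f).hom.app (op U)).hom s = 0 := by
  rw [shCocone_ι_apply] at hs
  set p := ((colimit.ι (Fp F) i).app (op U)).hom s with hp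
  have hT := Presheaf.equalizerSieve_mem J (toSheafify J (colimit (Fp F))) (X := op U) p 0
    (hs.trans (map_zero _).symm)
  obtain ⟨κ, hκ, Y, g, hgT, hcov⟩ := hU _ hT
  have hk : ∀ k, ∃ (j : I) (f : i ⟶ j),
      ((F.obj j).obj.map (g k).op).hom (((F.map f).hom.app (op U)).hom s) = 0 := by
    intro k
    have h1 : ((colimit (Fp F)).map (g k).op).hom p = 0 := (hgT k).trans (map_zero _)
    rw [hp, colimι_res] at h1
    obtain ⟨j, f, hf⟩ := P_eq_zero F _ i _ h1
    exact ⟨j, f, by rw [F_map_res]; exact hf⟩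
  obtain ⟨j, f, hjf⟩ := exists_common
    (fun k j f => ((F.obj j).obj.map (g k).op).hom (((F.map f).hom.app (op U)).hom s) = 0)
    (by
      intro k j f j' f' h
      rw [F_map_comp_apply, F_map_res, h, map_zero]) hk
  refine ⟨j, f, ?_⟩
  refine QC.sheaf_ext_ofArrows (F.obj j) Y g hcov _ _ (fun k => ?_)
  rw [hjf k, map_zero]

omit [IsFiltered I] in
/-- Gluing sections of an abelian sheaf along a covering family. -/
lemma exists_glue (G : Sheaf J AddCommGrpCat.{u}) {U : C} {κ : Type*} (Y : κ → C)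
    (g : ∀ k, Y k ⟶ U) (hcov : Sieve.ofArrows Y g ∈ J U) (t : ∀ k, G.obj.obj (op (Y k)))
    (hcompat : ∀ (k l : κ) (Z : C) (a : Z ⟶ Y k) (b : Z ⟶ Y l), a ≫ g k = b ≫ g l →
      (G.obj.map a.op).hom (t k) = (G.obj.map b.op).hom (t l)) :
    ∃ τ : G.obj.obj (op U), ∀ k, (G.obj.map (g k).op).hom τ = t k := by
  have hsh : Presieve.IsSheaf J (G.obj ⋙ forget _) :=
    (isSheaf_iff_isSheaf_of_type _ _).1
      ((Presheaf.isSheaf_iff_isSheaf_forget J G.obj (forget _)).1 G.property)
  have h1 : Presieve.IsSheafFor (G.obj ⋙ forget _) (Presieve.ofArrows Y g) :=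
    (Presieve.isSheafFor_iff_generate _).2 (hsh _ hcov)
  rw [Presieve.isSheafFor_arrows_iff] at h1
  obtain ⟨τ, hτ, -⟩ := h1 t (fun k l Z a b hab => hcompat k l Z a b hab)
  exact ⟨τ, hτ⟩

omit [IsFiltered I] in
lemma shι_res (i : I) {V W : C} (g : W ⟶ V) (s : (F.obj i).obj.obj (op V)) :
    ((shCocone F).pt.obj.map g.op).hom ((((shCocone F).ι.app i).hom.app (op V)).hom s) =
      (((shCocone F).ι.app i).hom.app (op W)).hom (((F.obj i).obj.map g.op).hom s) :=
  (ConcreteCategory.congr_hom (((shCocone F).ι.app i).hom.naturality g.op) s).symm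

omit [IsFiltered I] in
lemma shι_map {i j : I} (f : i ⟶ j) (V : Cᵒᵖ) (s : (F.obj i).obj.obj V) :
    (((shCocone F).ι.app j).hom.app V).hom (((F.map f).hom.app V).hom s) =
      (((shCocone F).ι.app i).hom.app V).hom s := by
  have := (shCocone F).w f
  exact ConcreteCategory.congr_hom (congrArg (fun t => t.hom.app V) this) s

/-- surjectivity part. -/
theorem locSurj {U : C} (hU : FinCov₂ J U) (t : (shCocone F).pt.obj.obj (op U)) :
    ∃ (i : I) (s : (F.obj i).obj.obj (op U)),
      (((shCocone F).ι.app i).hom.app (op U)).hom s = t := by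
  have hS := Presheaf.imageSieve_mem J (toSheafify J (colimit (Fp F))) (U := op U) t
  obtain ⟨κ, hκ, Y, g, hgS, hcov, hW⟩ := hU _ hS
  choose x hx using hgS
  choose ik sk hsk using fun k => P_rep F (op (Y k)) (x k)
  obtain ⟨i, hi⟩ := exists_common_obj ik
  let fk : ∀ k, ik k ⟶ i := fun k => (hi k).some
  let s' : ∀ k, (F.obj i).obj.obj (op (Y k)) := fun k => ((F.map (fk k)).hom.app _).hom (sk k)
  have hs' : ∀ k, (((shCocone F).ι.app i).hom.app (op (Y k))).hom (s' k) =
      ((shCocone F).pt.obj.map (g k).op).hom t := by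
    intro k
    rw [shCocone_ι_apply, colimι_map, hsk]
    exact hx k
  choose W p₁ p₂ hp hWfc hWuniv using hW
  have hkill : ∀ q : κ × κ, ∃ (j : I) (f : i ⟶ j), ((F.map f).hom.app (op (W q.1 q.2))).hom
      (((F.obj i).obj.map (p₁ q.1 q.2).op).hom (s' q.1) -
        ((F.obj i).obj.map (p₂ q.1 q.2).op).hom (s' q.2)) = 0 := by
    rintro ⟨k, l⟩
    apply locInj F (hWfc k l)
    rw [map_sub, ← shι_res, ← shι_res, hs', hs', sub_eq_zero]
    have h1 : ((shCocone F).pt.obj.map (p₁ k l).op).hom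
        (((shCocone F).pt.obj.map (g k).op).hom t) =
        ((shCocone F).pt.obj.map (p₁ k l ≫ g k).op).hom t := by
      rw [op_comp, Functor.map_comp]; rfl
    have h2 : ((shCocone F).pt.obj.map (p₂ k l).op).hom
        (((shCocone F).pt.obj.map (g l).op).hom t) =
        ((shCocone F).pt.obj.map (p₂ k l ≫ g l).op).hom t := by
      rw [op_comp, Functor.map_comp]; rfl
    rw [h1, h2, hp]
  obtain ⟨j, f, hjf⟩ := exists_common
    (fun (q : κ × κ) j f => ((F.map f).hom.app (op (W q.1 q.2))).hom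
      (((F.obj i).obj.map (p₁ q.1 q.2).op).hom (s' q.1) -
        ((F.obj i).obj.map (p₂ q.1 q.2).op).hom (s' q.2)) = 0)
    (by
      intro q j f j' f' h
      rw [F_map_comp_apply, h, map_zero]) hkill
  let s'' : ∀ k, (F.obj j).obj.obj (op (Y k)) := fun k => ((F.map f).hom.app _).hom (s' k)
  obtain ⟨τ, hτ⟩ := exists_glue (F.obj j) Y g hcov s'' (by
    intro k l Z a b hab
    obtain ⟨h, h1, h2⟩ := hWuniv k l Z a b hab
    have h3 := hjf (k, l)
    dsimp only at h3
    rw [map_sub, sub_eq_zero, ← F_map_res, ← F_map_res] at h3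
    have h4 := congrArg ((F.obj j).obj.map h.op).hom h3
    have e1 : ((F.obj j).obj.map h.op).hom (((F.obj j).obj.map (p₁ k l).op).hom (s'' k)) =
        ((F.obj j).obj.map a.op).hom (s'' k) := by
      rw [← h1, op_comp, Functor.map_comp]; rfl
    have e2 : ((F.obj j).obj.map h.op).hom (((F.obj j).obj.map (p₂ k l).op).hom (s'' l)) =
        ((F.obj j).obj.map b.op).hom (s'' l) := by
      rw [← h2, op_comp, Functor.map_comp]; rfl
    exact e1.symm.trans (h4.trans e2))
  refine ⟨j, τ, ?_⟩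
  refine QC.sheaf_ext_ofArrows (shCocone F).pt Y g hcov _ _ (fun k => ?_)
  rw [shι_res, hτ k, shι_map, hs']

/-- sections over an object with finite covers having finitely coverable overlaps commute with
filtered colimits (for the explicit cocone). -/
theorem secColim_shCocone {U : C} (hU : FinCov₂ J U) : SecColim (shCocone F) U where
  surj := locSurj F hU
  inj := locInj F hU.finCov

/-- the same for an arbitrary colimit cocone. -/
theorem secColim_of_isColimit {c : Cocone F} (hc : IsColimit c) {U : C} (hU : FinCov₂ J U) :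
    SecColim c U :=
  (secColim_shCocone F hU).of_iso ((shCoconeIsColimit F).uniqueUpToIso hc)

end Groth.Agent.H45.ExtColim
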